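import Mathlib

/-!
# Content vectors (S4792, key lemma for the alternating groups): the combinatorial part
-/

set_option autoImplicit false

namespace Cfsg.Agent.H127.An

open Equiv

theorem lt_choose (n : ℕ) (hn : 4 ≤ n) : ∀ r, 2 ≤ r → r + 2 ≤ n → n < n.choose r := by
  induction n, hn using Nat.le_induction with
  | base =>
    intro r h1 h2
    have : r = 2 := by omega
    subst this
    decide
  | succ n hn ih =>
    intro r h1 h2
    obtain ⟨s, rfl⟩ : ∃ s, r = s + 1 := ⟨r - 1, by omega⟩
    rw [Nat.choose_succ_succ']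
    rcases Nat.lt_or_ge (n - 2) (s + 1) with h | h
    · have e : s + 1 = n - 1 := by omega
      have h3 : n.choose (s + 1) = n := by rw [e, Nat.choose_symm (by omega : 1 ≤ n), Nat.choose_one_right]
      have h4 : 0 < n.choose s := Nat.choose_pos (by omega)
      have h5 := ih s (by omega) (by omega)
      omega
    · have h3 := ih (s + 1) h1 (by omega)
      have h4 : 0 < n.choose s := Nat.choose_pos (by omega)
      omega

section Content

variable {p : ℕ} {Adm : (ℕ → ℂ) → Prop}

/-- moving an entry backwards -/
theorem move_back (h3 : ∀ c, Adm c → ∀ n, n + 1 < p → c (n + 1) ≠ c n + 1 → c (n + 1) ≠ c n - 1 →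
      Adm (fun i => c (swap n (n + 1) i))) (d : ℕ) :
    ∀ (c : ℕ → ℂ) (j : ℕ), Adm c → j + d < p →
      (∀ i, j ≤ i → i < j + d → c (j + d) ≠ c i + 1 ∧ c (j + d) ≠ c i - 1) →
      ∃ c', Adm c' ∧ (∀ i, i < j → c' i = c i) ∧ c' j = c (j + d) := by
  induction d with
  | zero => intro c j hc _ _; exact ⟨c, hc, fun _ _ => rfl, rfl⟩
  | succ d ih =>
    intro c j hc hd hcon
    have h := hcon (j + d) (by omega) (by omega)
    have hc1 := h3 c hc (j + d) (by omega) h.1 h.2
    obtain ⟨c', hc', h4, h5⟩ := ih _ j hc1 (by omega) (by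
      intro i hi1 hi2
      have e1 : swap (j + d) (j + d + 1) (j + d) = j + d + 1 := swap_apply_left _ _
      have e2 : swap (j + d) (j + d + 1) i = i := swap_apply_of_ne_of_ne (by omega) (by omega)
      show c (swap (j + d) (j + d + 1) (j + d)) ≠ c (swap (j + d) (j + d + 1) i) + 1 ∧
        c (swap (j + d) (j + d + 1) (j + d)) ≠ c (swap (j + d) (j + d + 1) i) - 1
      rw [e1, e2]
      exact hcon i hi1 (by omega))
    refine ⟨c', hc', fun i hi => ?_, ?_⟩
    · rw [h4 i hi]
      show c (swap (j + d) (j + d + 1) i) = c i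
      rw [swap_apply_of_ne_of_ne (by omega) (by omega)]
    · rw [h5]
      show c (swap (j + d) (j + d + 1) (j + d)) = c (j + (d + 1))
      rw [swap_apply_left]
      rfl

theorem content (h5 : 5 ≤ p) (hne : ∃ c, Adm c) (h0 : ∀ c, Adm c → c 0 = 0) (h1 : ∀ c, Adm c → c 1 * c 1 = 1)
    (h2 : ∀ c, Adm c → ∀ n, n + 1 < p → c n ≠ c (n + 1))
    (h3 : ∀ c, Adm c → ∀ n, n + 1 < p → c (n + 1) ≠ c n + 1 → c (n + 1) ≠ c n - 1 →
      Adm (fun i => c (swap n (n + 1) i)))
    (h4 : ∀ c, Adm c → ∀ n, n + 2 < p → c (n + 2) = c n → c (n + 1) ≠ c n + 1 ∧ c (n + 1) ≠ c n - 1)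
    (h6 : ∀ c, Adm c → ∏ n ∈ Finset.range (p - 1), c (n + 1) = -((p - 2).factorial : ℂ)) :
    (∃ c, Adm c ∧ ∀ i < p - 1, c i = (i : ℂ)) ∨ ∃ c, Adm c ∧ ∀ i < p - 1, c i = -(i : ℂ) := by
  by_cases hrun : ∃ c, Adm c ∧ ∀ i < p - 1, c i = (i : ℂ)
  · exact Or.inl hrun
  right
  -- the maximal run
  obtain ⟨l, hl1, hlp, ⟨c, hc, hcl⟩, hmax⟩ : ∃ l, 1 ≤ l ∧ l < p - 1 ∧ (∃ c, Adm c ∧ ∀ i < l, c i = (i : ℂ)) ∧
      ¬ ∃ c, Adm c ∧ ∀ i < l + 1, c i = (i : ℂ) := by
    by_contra hcon
    push Not at hcon
    apply hrun
    have : ∀ l, 1 ≤ l → l ≤ p - 1 → ∃ c, Adm c ∧ ∀ i < l, c i = (i : ℂ) := by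
      intro l hl
      induction l, hl using Nat.le_induction with
      | base =>
        intro _
        obtain ⟨c, hc⟩ := hne
        refine ⟨c, hc, fun i hi => ?_⟩
        have : i = 0 := by omega
        subst this
        rw [h0 c hc, Nat.cast_zero]
      | succ l hl ih =>
        intro hl'
        exact hcon l hl (by omega) (ih (by omega))
    exact this (p - 1) (by omega) le_rfl
  have hmax' : ∀ c', Adm c' → (∀ i < l, c' i = (i : ℂ)) → c' l ≠ (l : ℂ) := by
    intro c' hc' h h'
    apply hmax
    refine ⟨c', hc', fun i hi => ?_⟩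
    rcases Nat.lt_or_ge i l with hil | hil
    · exact h i hil
    · have : i = l := by omega
      rw [this, h']
  -- no zero
  have hnz : ∀ n, 1 ≤ n → n < p → c n ≠ 0 := by
    intro n hn1 hnp h
    have h7 := h6 c hc
    rw [Finset.prod_eq_zero (i := n - 1) (Finset.mem_range.2 (by omega)) (by
      rw [Nat.sub_add_cancel hn1]; exact h)] at h7
    have h8 : ((p - 2).factorial : ℂ) = 0 := by linear_combination h7
    exact (Nat.factorial_pos (p - 2)).ne' (by exact_mod_cast h8)
  -- the remaining entries
  have hrest : ∀ k, l ≤ k → k < p → c k = (((l : ℤ) - 1 - k : ℤ) : ℂ) := by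
    intro k
    induction k using Nat.strong_induction_on with
    | _ k ih =>
      intro hlk hkp
      -- the known entries
      have hknown : ∀ i, i < k → ∃ m : ℤ, c i = (m : ℂ) ∧ ((i < l ∧ m = i) ∨ (l ≤ i ∧ m = (l : ℤ) - 1 - i)) := by
        intro i hi
        rcases Nat.lt_or_ge i l with hil | hil
        · exact ⟨i, by rw [hcl i hil]; push_cast; rfl, Or.inl ⟨hil, rfl⟩⟩
        · exact ⟨_, ih i hi hil (by omega), Or.inr ⟨hil, rfl⟩⟩
      by_cases hint : ∃ m : ℤ, (l : ℤ) - 1 - k ≤ m ∧ m ≤ l ∧ c k = (m : ℂ)
      swap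
      · -- move to position `1`
        exfalso
        have hno : ∀ m : ℤ, (l : ℤ) - 1 - k ≤ m → m ≤ l → c k ≠ (m : ℂ) := fun m ha hb h => hint ⟨m, ha, hb, h⟩
        obtain ⟨c', hc', -, h8⟩ := move_back h3 (k - 1) c 1 hc (by omega) (by
          intro i hi1 hi2
          have e : 1 + (k - 1) = k := by omega
          rw [e] at hi2 ⊢
          obtain ⟨m, hm, hm'⟩ := hknown i hi2
          rw [hm]
          constructor
          · intro h
            refine hno (m + 1) ?_ ?_ (by rw [h]; push_cast; ring) <;> omega
          · intro h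
            refine hno (m - 1) ?_ ?_ (by rw [h]; push_cast; ring) <;> omega)
        have e : 1 + (k - 1) = k := by omega
        rw [e] at h8
        have h9 := h1 c' hc'
        rw [h8] at h9
        have h10 : (c k - 1) * (c k + 1) = 0 := by linear_combination h9
        rcases mul_eq_zero.1 h10 with h | h
        · exact hno 1 (by omega) (by omega) (by push_cast; linear_combination h)
        · exact hno (-1) (by omega) (by omega) (by push_cast; linear_combination h)
      obtain ⟨m, hm1, hm2, hm⟩ := hint
      -- the general move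
      have hmove : ∀ j, j ≤ k → (∀ i, j ≤ i → i < k → ∀ n : ℤ, ((i < l ∧ n = i) ∨ (l ≤ i ∧ n = (l : ℤ) - 1 - i)) →
          m ≠ n + 1 ∧ m ≠ n - 1) → ∃ c', Adm c' ∧ (∀ i, i < j → c' i = c i) ∧ c' j = (m : ℂ) := by
        intro j hj hcon
        have e : j + (k - j) = k := by omega
        obtain ⟨c', hc', h7, h8⟩ := move_back h3 (k - j) c j hc (by omega) (by
          intro i hi1 hi2
          rw [e] at hi2 ⊢
          obtain ⟨n, hn, hn'⟩ := hknown i hi2
          have h9 := hcon i hi1 hi2 n hn'
          rw [hn, hm]
          constructor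
          · intro h; exact h9.1 (by exact_mod_cast h)
          · intro h; exact h9.2 (by exact_mod_cast h))
        rw [e, hm] at h8
        exact ⟨c', hc', h7, h8⟩
      rcases eq_or_ne m ((l : ℤ) - 1 - k) with hF | hF
      · rw [hm, hF]
      exfalso
      rcases eq_or_ne m (l : ℤ) with hB | hB
      · -- `m = l`
        obtain ⟨c', hc', h7, h8⟩ := hmove l hlk (by
          intro i hi1 hi2 n hn
          constructor <;> omega)
        refine hmax' c' hc' (fun i hi => by rw [h7 i hi, hcl i hi]) ?_
        rw [h8, hB]
        push_cast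
        rfl
      rcases lt_trichotomy m 0 with hneg | h00 | hpos
      · -- negative
        obtain ⟨t, ht⟩ : ∃ t : ℕ, m = -(t : ℤ) := ⟨m.natAbs, by omega⟩
        rcases eq_or_ne t (k - l) with htk | htk
        · refine h2 c hc (k - 1) (by omega) ?_
          have e : k - 1 + 1 = k := by omega
          rw [e, hm, ih (k - 1) (by omega) (by omega) (by omega), ht, htk]
          congr 1
          omega
        · obtain ⟨c', hc', h7, h8⟩ := hmove (l + t + 1) (by omega) (by
            intro i hi1 hi2 n hn
            constructor <;> omega)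
          have e1 : c' (l + t - 1) = (m : ℂ) := by
            rw [h7 _ (by omega), ih _ (by omega) (by omega) (by omega), ht]
            congr 1
            omega
          have e2 : c' (l + t) = (m : ℂ) - 1 := by
            rw [h7 _ (by omega), ih _ (by omega) (by omega) (by omega), ht]
            push_cast
            ring
          have h9 := h4 c' hc' (l + t - 1) (by omega) (by
            have e : l + t - 1 + 2 = l + t + 1 := by omega
            rw [e, h8, e1])
          have e : l + t - 1 + 1 = l + t := by omega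
          rw [e, e1, e2] at h9
          exact h9.2 rfl
      · exact hnz k (by omega) hkp (by rw [hm, h00, Int.cast_zero])
      · -- positive
        obtain ⟨t, ht⟩ : ∃ t : ℕ, m = (t : ℤ) := ⟨m.natAbs, by omega⟩
        rcases eq_or_ne (t + 1) l with htk | htk
        · obtain ⟨c', hc', h7, h8⟩ := hmove l hlk (by
            intro i hi1 hi2 n hn
            constructor <;> omega)
          refine h2 c' hc' t (by omega) ?_
          rw [htk, h8, h7 t (by omega), hcl t (by omega), ht]
          push_cast
          rfl
        · obtain ⟨c', hc', h7, h8⟩ := hmove (t + 2) (by omega) (by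
            intro i hi1 hi2 n hn
            constructor <;> omega)
          have e1 : c' t = (t : ℂ) := by rw [h7 t (by omega), hcl t (by omega)]
          have e2 : c' (t + 1) = (t : ℂ) + 1 := by
            rw [h7 _ (by omega), hcl _ (by omega)]
            push_cast
            rfl
          have h9 := h4 c' hc' t (by omega) (by
            rw [h8, e1, ht]
            push_cast
            rfl)
          rw [e1, e2] at h9
          exact h9.1 rfl
  -- the product
  have hprod : (l - 1).factorial * (p - l).factorial = (p - 2).factorial := by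
    have h7 := congrArg norm (h6 c hc)
    rw [norm_prod, norm_neg, Complex.norm_natCast] at h7
    have e : p - 1 = (l - 1) + (p - l) := by omega
    rw [e, Finset.prod_range_add] at h7
    have e1 : ∏ x ∈ Finset.range (l - 1), ‖c (x + 1)‖ = ((l - 1).factorial : ℝ) := by
      rw [← Finset.prod_range_add_one_eq_factorial]
      push_cast
      refine Finset.prod_congr rfl fun x hx => ?_
      rw [Finset.mem_range] at hx
      rw [hcl (x + 1) (by omega), Complex.norm_natCast]
      push_cast
      rfl
    have e2 : ∏ x ∈ Finset.range (p - l), ‖c (l - 1 + x + 1)‖ = ((p - l).factorial : ℝ) := by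
      rw [← Finset.prod_range_add_one_eq_factorial]
      push_cast
      refine Finset.prod_congr rfl fun x hx => ?_
      rw [Finset.mem_range] at hx
      rw [hrest (l - 1 + x + 1) (by omega) (by omega)]
      have e3 : (l : ℤ) - 1 - ((l - 1 + x + 1 : ℕ) : ℤ) = -((x + 1 : ℕ) : ℤ) := by omega
      rw [e3]
      rw [Int.cast_neg, norm_neg, Int.cast_natCast, Complex.norm_natCast]
      push_cast
      rfl
    rw [e1, e2] at h7
    exact_mod_cast h7
  have hl2 : l = 2 := by
    have h7 := Nat.choose_mul_factorial_mul_factorial (show l - 1 ≤ p - 1 by omega)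
    have e : p - 1 - (l - 1) = p - l := by omega
    rw [e, mul_assoc, hprod] at h7
    have e2 : (p - 1).factorial = (p - 1) * (p - 2).factorial := by
      have : p - 1 = p - 2 + 1 := by omega
      rw [this, Nat.factorial_succ]
    rw [e2] at h7
    have h8 := Nat.eq_of_mul_eq_mul_right (Nat.factorial_pos _) h7
    by_contra hcon
    rcases Nat.lt_or_ge (l - 1) 2 with h9 | h9
    · have : l = 1 := by omega
      rw [this] at h8
      simp at h8
      omega
    · have := lt_choose (p - 1) (by omega) (l - 1) h9 (by omega)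
      omega
  subst hl2
  -- move the entry `1` to the end
  have hfin : ∀ m, 1 ≤ m → m < p → ∃ c', Adm c' ∧ (∀ i < m, c' i = -(i : ℂ)) ∧ c' m = 1 ∧
      ∀ k, m < k → k < p → c' k = 1 - (k : ℂ) := by
    intro m hm
    induction m, hm using Nat.le_induction with
    | base =>
      intro _
      refine ⟨c, hc, fun i hi => ?_, ?_, fun k hk1 hk2 => ?_⟩
      · have : i = 0 := by omega
        subst this
        rw [h0 c hc]
        simp
      · rw [hcl 1 (by norm_num)]
        simp
      · rw [hrest k (by omega) hk2]
        push_cast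
        ring
    | succ m hm ih =>
      intro hmp
      obtain ⟨c', hc', ha, hb, hd⟩ := ih (by omega)
      have e1 : c' (m + 1) = -(m : ℂ) := by
        rw [hd (m + 1) (by omega) hmp]
        push_cast
        ring
      have hmne : (m : ℂ) ≠ 0 := by
        intro h
        have : m = 0 := by exact_mod_cast h
        omega
      refine ⟨_, h3 c' hc' m (by omega) ?_ ?_, fun i hi => ?_, ?_, fun k hk1 hk2 => ?_⟩
      · rw [e1, hb]
        intro h
        have : ((m + 2 : ℕ) : ℂ) = 0 := by push_cast; linear_combination -h
        exact absurd (by exact_mod_cast this : m + 2 = 0) (by omega)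
      · rw [e1, hb]
        intro h
        apply hmne
        linear_combination -h
      · show c' (swap m (m + 1) i) = -(i : ℂ)
        rcases Nat.lt_or_ge i m with h | h
        · rw [swap_apply_of_ne_of_ne (by omega) (by omega), ha i h]
        · have : i = m := by omega
          rw [this, swap_apply_left, e1]
      · show c' (swap m (m + 1) (m + 1)) = 1
        rw [swap_apply_right, hb]
      · show c' (swap m (m + 1) k) = 1 - (k : ℂ)
        rw [swap_apply_of_ne_of_ne (by omega) (by omega), hd k (by omega) hk2]
  obtain ⟨c', hc', ha, -, -⟩ := hfin (p - 1) (by omega) (by omega)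
  exact ⟨c', hc', ha⟩

end Content

end Cfsg.Agent.H127.An
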