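import Mathlib

/-!
# Invariant Hermitian forms and the local relations of the Jucys-Murphy elements (S4792, key lemma)
-/

set_option autoImplicit false

namespace Cfsg.Agent.H127.An

open Equiv

/-- a definite Hermitian form (only what is needed) -/
structure Herm (V : Type) [AddCommGroup V] [Module ℂ V] where
  H : V → V → ℂ
  add_left : ∀ x y z, H (x + y) z = H x z + H y z
  add_right : ∀ x y z, H x (y + z) = H x y + H x z
  smul_left : ∀ (c : ℂ) x y, H (c • x) y = star c * H x y
  smul_right : ∀ (c : ℂ) x y, H x (c • y) = c * H x y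
  pos : ∀ x, H x x = 0 → x = 0

theorem exists_herm {G : Type} [Group G] [Fintype G] {V : Type} [AddCommGroup V] [Module ℂ V]
    [FiniteDimensional ℂ V] (ρ : Representation ℂ G V) :
    ∃ h : Herm V, ∀ (g : G) (x y : V), h.H (ρ g x) (ρ g y) = h.H x y := by
  let e : V ≃ₗ[ℂ] (Fin (Module.finrank ℂ V) → ℂ) := (Module.finBasis ℂ V).equivFun
  let H : V → V → ℂ := fun x y => ∑ g : G, ∑ i, star (e (ρ g x) i) * e (ρ g y) i
  refine ⟨⟨H, fun x y z => ?_, fun x y z => ?_, fun c x y => ?_, fun c x y => ?_, fun x hx => ?_⟩, fun g x y => ?_⟩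
  · simp only [H, map_add, Pi.add_apply, star_add, add_mul, Finset.sum_add_distrib]
  · simp only [H, map_add, Pi.add_apply, mul_add, Finset.sum_add_distrib]
  · simp only [H, map_smul, Pi.smul_apply, smul_eq_mul, star_mul', Finset.mul_sum]
    refine Finset.sum_congr rfl fun g _ => Finset.sum_congr rfl fun i _ => ?_
    ring
  · simp only [H, map_smul, Pi.smul_apply, smul_eq_mul, Finset.mul_sum]
    refine Finset.sum_congr rfl fun g _ => Finset.sum_congr rfl fun i _ => ?_
    ring
  · have h1 : H x x = ((∑ g : G, ∑ i, Complex.normSq (e (ρ g x) i) : ℝ) : ℂ) := by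
      push_cast
      refine Finset.sum_congr rfl fun g _ => Finset.sum_congr rfl fun i _ => ?_
      rw [Complex.normSq_eq_conj_mul_self]
      rfl
    rw [h1] at hx
    have h2 : ∑ g : G, ∑ i, Complex.normSq (e (ρ g x) i) = 0 := by exact_mod_cast hx
    rw [Finset.sum_eq_zero_iff_of_nonneg (fun g _ => Finset.sum_nonneg fun i _ => Complex.normSq_nonneg _)] at h2
    have h3 := h2 1 (Finset.mem_univ _)
    rw [Finset.sum_eq_zero_iff_of_nonneg (fun i _ => Complex.normSq_nonneg _)] at h3
    apply e.injective
    rw [map_zero]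
    funext i
    have h4 := Complex.normSq_eq_zero.1 (h3 i (Finset.mem_univ i))
    rwa [map_one, Module.End.one_apply] at h4
  · show ∑ k : G, ∑ i, star (e (ρ k (ρ g x)) i) * e (ρ k (ρ g y)) i = H x y
    have h1 : ∀ k : G, ∑ i, star (e (ρ k (ρ g x)) i) * e (ρ k (ρ g y)) i =
        ∑ i, star (e (ρ (k * g) x) i) * e (ρ (k * g) y) i := by
      intro k
      rw [map_mul]
      rfl
    rw [Finset.sum_congr rfl fun k _ => h1 k]
    exact Fintype.sum_equiv (Equiv.mulRight g) _ _ fun k => rfl

section Local

variable {V : Type} [AddCommGroup V] [Module ℂ V] (h : Herm V)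

theorem Herm.neg_right (x y : V) : h.H x (-y) = -h.H x y := by
  have := h.smul_right (-1) x y
  rwa [neg_one_smul, neg_one_mul] at this

theorem Herm.sub_right (x y z : V) : h.H x (y - z) = h.H x y - h.H x z := by
  rw [sub_eq_add_neg, h.add_right, h.neg_right, sub_eq_add_neg]

theorem Herm.neg_left (x y : V) : h.H (-x) y = -h.H x y := by
  have := h.smul_left (-1) x y
  rwa [neg_one_smul, star_neg, star_one, neg_one_mul] at this

theorem Herm.sub_left (x y z : V) : h.H (x - y) z = h.H x z - h.H y z := by
  rw [sub_eq_add_neg, h.add_left, h.neg_left, sub_eq_add_neg]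

/-- eigenvalues of self-adjoint operators are real -/
theorem Herm.star_eq {J : Module.End ℂ V} (hJ : ∀ x y, h.H (J x) y = h.H x (J y)) {a : ℂ} {v : V} (hv : v ≠ 0)
    (ha : J v = a • v) : star a = a := by
  have h1 := hJ v v
  rw [ha, h.smul_left, h.smul_right] at h1
  have h2 : h.H v v ≠ 0 := fun h0 => hv (h.pos v h0)
  exact mul_right_cancel₀ h2 h1

/-- eigenvectors for different eigenvalues are orthogonal -/
theorem Herm.orth {J : Module.End ℂ V} (hJ : ∀ x y, h.H (J x) y = h.H x (J y)) {a b : ℂ} {v w : V} (hv : v ≠ 0)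
    (ha : J v = a • v) (hb : J w = b • w) (hab : a ≠ b) : h.H v w = 0 := by
  have h1 := hJ v w
  rw [ha, hb, h.smul_left, h.smul_right, h.star_eq hJ hv ha] at h1
  have h2 : (a - b) * h.H v w = 0 := by linear_combination h1
  exact (mul_eq_zero.1 h2).resolve_left (sub_ne_zero.2 hab)

variable {J J' s : Module.End ℂ V} (hJ : ∀ x y, h.H (J x) y = h.H x (J y)) (hs : ∀ x y, h.H (s x) (s y) = h.H x y)
  (hss : s * s = 1) (hJ' : J' = s * J * s + s) {a b : ℂ} {v : V} (hv : v ≠ 0) (h1 : J v = a • v) (h2 : J' v = b • v)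

include hss in
theorem ss_apply (x : V) : s (s x) = x := by
  rw [← Module.End.mul_apply, hss, Module.End.one_apply]

include hss hJ' h2 in
theorem J_s : J (s v) = b • s v - v := by
  have e : J (s v) = s (J' v) - v := by
    rw [hJ']
    simp only [LinearMap.add_apply, Module.End.mul_apply, map_add, ss_apply hss]
    abel
  rw [e, h2, map_smul]

include hss hJ' h1 in
theorem J'_s : J' (s v) = a • s v + v := by
  rw [hJ']
  simp only [LinearMap.add_apply, Module.End.mul_apply, ss_apply hss, h1, map_smul]

include hJ hss hJ' hv h1 h2 in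
theorem local_ne : a ≠ b := by
  intro hab
  subst hab
  have e1 := J_s hss hJ' h2
  have e2 := hJ v (s v)
  rw [h1, e1, h.smul_left, h.sub_right, h.smul_right, h.star_eq hJ hv h1] at e2
  exact hv (h.pos v (by linear_combination e2))

include hJ hs hss hJ' hv h1 h2 in
theorem local_succ (hab : b = a + 1) : s v = v := by
  have e1 := J_s hss hJ' h2
  have hne : a ≠ b := by rw [hab]; simp
  set u : V := s v - v with hu
  have e2 : J u = b • u := by
    rw [hu, map_sub, e1, h1, hab]
    module
  have e3 := h.orth hJ hv h1 e2 hne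
  have e4 : s u = -u := by
    rw [hu, map_sub, ss_apply hss]
    abel
  have e5 : s v = v + u := by rw [hu]; abel
  have e6 := hs v u
  rw [e4, e5, h.neg_right, h.add_left, e3, zero_add, neg_eq_zero] at e6
  have e7 := h.pos u e6
  rw [e5, e7, add_zero]

include hJ hs hss hJ' hv h1 h2 in
theorem local_pred (hab : b = a - 1) : s v = -v := by
  have e1 := J_s hss hJ' h2
  have hne : a ≠ b := by
    rw [hab]
    intro h0
    have : (1 : ℂ) = 0 := by linear_combination h0
    exact one_ne_zero this
  set u : V := s v + v with hu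
  have e2 : J u = b • u := by
    rw [hu, map_add, e1, h1, hab]
    module
  have e3 := h.orth hJ hv h1 e2 hne
  have e4 : s u = u := by
    rw [hu, map_add, ss_apply hss]
    abel
  have e5 : s v = u - v := by rw [hu]; abel
  have e6 := hs v u
  rw [e4, e5, h.sub_left, e3, sub_zero] at e6
  have e7 := h.pos u e6
  rw [e5, e7, zero_sub]

include hss hJ' hv h1 h2 in
theorem local_swap (hab : a ≠ b) (hab1 : b ≠ a + 1) (hab2 : b ≠ a - 1) :
    ∃ κ : ℂ, s v + κ • v ≠ 0 ∧ J (s v + κ • v) = b • (s v + κ • v) ∧ J' (s v + κ • v) = a • (s v + κ • v) := by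
  have hne : a - b ≠ 0 := sub_ne_zero.2 hab
  refine ⟨1 / (a - b), fun h0 => ?_, ?_, ?_⟩
  · have e1 : s v = (-(1 / (a - b))) • v := by
      rw [neg_smul]
      exact eq_neg_of_add_eq_zero_left h0
    have e2 := ss_apply hss v
    rw [e1, map_smul, e1, smul_smul] at e2
    have e3 : ((-(1 / (a - b))) * (-(1 / (a - b))) - 1) • v = 0 := by
      rw [sub_smul, e2, one_smul, sub_self]
    have e4 := (smul_eq_zero.1 e3).resolve_right hv
    have e5 : (a - b) * (a - b) = 1 := by
      field_simp at e4
      linear_combination -e4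
    have e6 : (a - b - 1) * (a - b + 1) = 0 := by linear_combination e5
    rcases mul_eq_zero.1 e6 with h | h
    · exact hab2 (by linear_combination -h)
    · exact hab1 (by linear_combination -h)
  · rw [map_add, map_smul, J_s hss hJ' h2, h1]
    have e : (1 / (a - b)) • (a • v) = v + (b * (1 / (a - b))) • v := by
      rw [smul_smul]
      have : (1 / (a - b)) * a = 1 + b * (1 / (a - b)) := by
        field_simp
        ring
      rw [this, add_smul, one_smul]
    rw [e]
    module
  · rw [map_add, map_smul, J'_s hss hJ' h1, h2]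
    have e : (1 / (a - b)) • (b • v) = (a * (1 / (a - b))) • v - v := by
      rw [smul_smul]
      have : (1 / (a - b)) * b = a * (1 / (a - b)) - 1 := by
        field_simp
        ring
      rw [this, sub_smul, one_smul]
    rw [e]
    module

end Local

end Cfsg.Agent.H127.An
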