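import Cfsg.Agent.H127.An.Herm
import Cfsg.Agent.H127.An.Tools

/-!
# Jucys-Murphy elements (S4792, key lemma)
-/

set_option autoImplicit false
set_option linter.unusedSectionVars false

namespace Cfsg.Agent.H127.An

open Equiv

section JM

variable {α : Type} [Fintype α] [DecidableEq α] {V : Type} [AddCommGroup V] [Module ℂ V]
  (ρ : Representation ℂ (Perm α) V) (x : ℕ → α)

/-- the points `x 0, ..., x (n - 1)` -/
def ptS (n : ℕ) : Finset α := (Finset.range n).image x

/-- the Jucys-Murphy element of `x n` -/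
noncomputable def jm (n : ℕ) : Module.End ℂ V := ∑ y ∈ ptS x n, ρ (swap y (x n))

/-- the adjacent transposition -/
def adj (n : ℕ) : Perm α := swap (x n) (x (n + 1))

variable {x}

theorem mem_ptS {n : ℕ} {y : α} : y ∈ ptS x n ↔ ∃ i < n, x i = y := by
  simp [ptS]

theorem ptS_succ (n : ℕ) : ptS x (n + 1) = insert (x n) (ptS x n) := by
  rw [ptS, Finset.range_add_one, Finset.image_insert, ptS]

theorem ptS_zero : ptS x 0 = ∅ := by simp [ptS]

theorem jm_zero : jm ρ x 0 = 0 := by rw [jm, ptS_zero, Finset.sum_empty]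

/-- permutations preserving the first `n` points and fixing `x n` commute with the element -/
theorem jm_comm {n : ℕ} {g : Perm α} (hg : g (x n) = x n) (hS : ∀ y ∈ ptS x n, g y ∈ ptS x n) :
    ρ g * jm ρ x n = jm ρ x n * ρ g := by
  have him : (ptS x n).image g = ptS x n := by
    apply Finset.eq_of_subset_of_card_le
    · intro y hy
      obtain ⟨z, hz, rfl⟩ := Finset.mem_image.1 hy
      exact hS z hz
    · rw [Finset.card_image_of_injective _ g.injective]
  rw [jm, Finset.mul_sum, Finset.sum_mul]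
  conv_rhs => rw [← him]
  rw [Finset.sum_image (fun a _ b _ h => g.injective h)]
  refine Finset.sum_congr rfl fun y _ => ?_
  rw [← map_mul, ← map_mul, mul_swap_eq_swap_mul, hg]

variable {p : ℕ} (hx : ∀ i j, i < p → j < p → x i = x j → i = j)
include hx

theorem notMem_ptS {n m : ℕ} (hn : n < p) (hm : m ≤ n) : x n ∉ ptS x m := by
  rw [mem_ptS]
  rintro ⟨i, hi, h⟩
  have := hx i n (by omega) hn h
  omega

theorem card_ptS {n : ℕ} (hn : n ≤ p) : (ptS x n).card = n := by
  rw [ptS, Finset.card_image_of_injOn, Finset.card_range]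
  intro i hi j hj h
  rw [Finset.coe_range, Set.mem_Iio] at hi hj
  exact hx i j (by omega) (by omega) h

theorem jm_one : jm ρ x 1 = ρ (adj x 0) := by
  rw [jm, ptS_succ, ptS_zero, insert_empty_eq, Finset.sum_singleton]
  rfl

/-- a transposition of two of the first `n` points commutes with `jm n` -/
theorem jm_comm_lt {n a b : ℕ} (hn : n < p) (ha : a < n) (hb : b < n) :
    ρ (swap (x a) (x b)) * jm ρ x n = jm ρ x n * ρ (swap (x a) (x b)) := by
  apply jm_comm
  · refine swap_apply_of_ne_of_ne (fun h => ?_) (fun h => ?_)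
    · have := hx n a hn (by omega) h; omega
    · have := hx n b hn (by omega) h; omega
  · intro y hy
    rcases eq_or_ne y (x a) with rfl | h1
    · rw [swap_apply_left]; exact mem_ptS.2 ⟨b, hb, rfl⟩
    rcases eq_or_ne y (x b) with rfl | h2
    · rw [swap_apply_right]; exact mem_ptS.2 ⟨a, ha, rfl⟩
    rw [swap_apply_of_ne_of_ne h1 h2]; exact hy

/-- a transposition of two later points commutes with `jm n` -/
theorem jm_comm_gt {n a b : ℕ} (ha : n < a) (hb : n < b) (hap : a < p) (hbp : b < p) :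
    ρ (swap (x a) (x b)) * jm ρ x n = jm ρ x n * ρ (swap (x a) (x b)) := by
  have h1 : ∀ m, m ≤ n → swap (x a) (x b) (x m) = x m := by
    intro m hm
    refine swap_apply_of_ne_of_ne (fun h => ?_) (fun h => ?_)
    · have := hx m a (by omega) hap h; omega
    · have := hx m b (by omega) hbp h; omega
  refine jm_comm ρ (h1 n le_rfl) fun y hy => ?_
  obtain ⟨i, hi, rfl⟩ := mem_ptS.1 hy
  rw [h1 i hi.le]
  exact hy

/-- the elements commute -/
theorem jm_comm_jm {m n : ℕ} (hmn : m < n) (hn : n < p) : jm ρ x m * jm ρ x n = jm ρ x n * jm ρ x m := by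
  rw [jm, Finset.sum_mul, Finset.mul_sum]
  refine Finset.sum_congr rfl fun y hy => ?_
  obtain ⟨i, hi, rfl⟩ := mem_ptS.1 hy
  exact jm_comm_lt ρ hx hn (by omega) hmn

theorem jm_comm_jm' {m n : ℕ} (hm : m < p) (hn : n < p) : jm ρ x m * jm ρ x n = jm ρ x n * jm ρ x m := by
  rcases lt_trichotomy m n with h | rfl | h
  · exact jm_comm_jm ρ hx h hn
  · rfl
  · exact (jm_comm_jm ρ hx h hm).symm

theorem adj_sq (n : ℕ) : ρ (adj x n) * ρ (adj x n) = 1 := by
  rw [← map_mul, adj, swap_mul_self, map_one]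

theorem jm_succ {n : ℕ} (hn : n + 1 < p) :
    jm ρ x (n + 1) = ρ (adj x n) * jm ρ x n * ρ (adj x n) + ρ (adj x n) := by
  rw [jm, ptS_succ, Finset.sum_insert (notMem_ptS hx (by omega) le_rfl), jm, Finset.mul_sum, Finset.sum_mul, add_comm]
  congr 1
  refine Finset.sum_congr rfl fun y hy => ?_
  obtain ⟨i, hi, rfl⟩ := mem_ptS.1 hy
  have h1 : x i ≠ x n := fun h => by have := hx i n (by omega) (by omega) h; omega
  have h2 : x i ≠ x (n + 1) := fun h => by have := hx i (n + 1) (by omega) (by omega) h; omega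
  rw [← map_mul, ← map_mul, adj, mul_swap_eq_swap_mul (swap (x n) (x (n + 1))) (x i) (x n),
    swap_apply_of_ne_of_ne h1 h2, swap_apply_left, mul_assoc, swap_mul_self, mul_one]

theorem adj_comm {m n : ℕ} (h1 : n ≠ m) (h2 : n ≠ m + 1) (hm : m + 1 < p) (hn : n < p) :
    ρ (adj x m) * jm ρ x n = jm ρ x n * ρ (adj x m) := by
  rcases Nat.lt_or_ge n m with h | h
  · exact jm_comm_gt ρ hx h (by omega) (by omega) hm
  · exact jm_comm_lt ρ hx hn (by omega) (by omega)

theorem braid {n : ℕ} (hn : n + 2 < p) :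
    ρ (adj x n) * ρ (adj x (n + 1)) * ρ (adj x n) = ρ (adj x (n + 1)) * ρ (adj x n) * ρ (adj x (n + 1)) := by
  have h1 : x (n + 2) ≠ x n := fun h => by have := hx (n + 2) n hn (by omega) h; omega
  have h2 : x (n + 2) ≠ x (n + 1) := fun h => by have := hx (n + 2) (n + 1) hn (by omega) h; omega
  have h3 : x n ≠ x (n + 1) := fun h => by have := hx n (n + 1) (by omega) (by omega) h; omega
  have e1 : adj x n * adj x (n + 1) * adj x n = swap (x n) (x (n + 2)) := by
    show swap (x n) (x (n + 1)) * swap (x (n + 1)) (x (n + 2)) * swap (x n) (x (n + 1)) = _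
    rw [mul_swap_eq_swap_mul (swap (x n) (x (n + 1))) (x (n + 1)) (x (n + 2)), swap_apply_right,
      swap_apply_of_ne_of_ne h1 h2, mul_assoc, swap_mul_self, mul_one]
  have e2 : adj x (n + 1) * adj x n * adj x (n + 1) = swap (x n) (x (n + 2)) := by
    show swap (x (n + 1)) (x (n + 2)) * swap (x n) (x (n + 1)) * swap (x (n + 1)) (x (n + 2)) = _
    rw [mul_swap_eq_swap_mul (swap (x (n + 1)) (x (n + 2))) (x n) (x (n + 1)), swap_apply_left,
      swap_apply_of_ne_of_ne h3 h1.symm, mul_assoc, swap_mul_self, mul_one]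
  rw [← map_mul, ← map_mul, ← map_mul, ← map_mul, e1, e2]

/-- joint eigenvectors -/
def Adm (ρ : Representation ℂ (Perm α) V) (x : ℕ → α) (p : ℕ) (c : ℕ → ℂ) : Prop :=
  ∃ v : V, v ≠ 0 ∧ ∀ n < p, jm ρ x n v = c n • v

variable {ρ} [FiniteDimensional ℂ V]

theorem adm_zero (hp : 0 < p) {c : ℕ → ℂ} (h : Adm ρ x p c) : c 0 = 0 := by
  obtain ⟨v, hv, h⟩ := h
  have := h 0 hp
  rw [jm_zero, LinearMap.zero_apply] at this
  exact (smul_eq_zero.1 this.symm).resolve_right hv

theorem adm_one (hp : 1 < p) {c : ℕ → ℂ} (h : Adm ρ x p c) : c 1 * c 1 = 1 := by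
  obtain ⟨v, hv, h⟩ := h
  have h1 := h 1 hp
  rw [jm_one ρ hx] at h1
  have h2 : ρ (adj x 0) (ρ (adj x 0) v) = v := by
    rw [← Module.End.mul_apply, adj_sq ρ hx, Module.End.one_apply]
  rw [h1, map_smul, h1, smul_smul] at h2
  have h3 : (c 1 * c 1 - 1) • v = 0 := by rw [sub_smul, h2, one_smul, sub_self]
  exact sub_eq_zero.1 ((smul_eq_zero.1 h3).resolve_right hv)

/-- the elements are self-adjoint -/
theorem jm_sa {h : Herm V} (hh : ∀ (g : Perm α) (x y : V), h.H (ρ g x) (ρ g y) = h.H x y) (n : ℕ) (u v : V) :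
    h.H (jm ρ x n u) v = h.H u (jm ρ x n v) := by
  have hz : ∀ u, h.H 0 u = 0 := by
    intro u
    have := h.smul_left 0 0 u
    rwa [zero_smul, star_zero, zero_mul] at this
  have hz' : ∀ u, h.H u 0 = 0 := by
    intro u
    have := h.smul_right 0 u 0
    rwa [zero_smul, zero_mul] at this
  have key : ∀ s : Finset α, h.H (∑ y ∈ s, ρ (swap y (x n)) u) v = h.H u (∑ y ∈ s, ρ (swap y (x n)) v) := by
    intro s
    induction s using Finset.induction_on with
    | empty => rw [Finset.sum_empty, Finset.sum_empty, hz, hz']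
    | insert y s hy ih =>
      rw [Finset.sum_insert hy, Finset.sum_insert hy, h.add_left, h.add_right, ih]
      congr 1
      rw [← hh (swap y (x n)) (ρ (swap y (x n)) u), ← Module.End.mul_apply, ← map_mul, swap_mul_self, map_one,
        Module.End.one_apply]
  simp only [jm, LinearMap.sum_apply]
  exact key _

theorem adm_ne {c : ℕ → ℂ} (h : Adm ρ x p c) {n : ℕ} (hn : n + 1 < p) : c n ≠ c (n + 1) := by
  obtain ⟨v, hv, h⟩ := h
  obtain ⟨H, hH⟩ := exists_herm ρ
  exact local_ne H (J := jm ρ x n) (J' := jm ρ x (n + 1)) (s := ρ (adj x n)) (jm_sa hx hH n) (adj_sq ρ hx n)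
    (jm_succ ρ hx hn) hv (h n (by omega)) (h (n + 1) hn)

theorem adm_succ {c : ℕ → ℂ} {v : V} (hv : v ≠ 0) (h : ∀ n < p, jm ρ x n v = c n • v) {n : ℕ} (hn : n + 1 < p)
    (hc : c (n + 1) = c n + 1) : ρ (adj x n) v = v := by
  obtain ⟨H, hH⟩ := exists_herm ρ
  exact local_succ H (J := jm ρ x n) (J' := jm ρ x (n + 1)) (s := ρ (adj x n)) (jm_sa hx hH n) (hH _) (adj_sq ρ hx n)
    (jm_succ ρ hx hn) hv (h n (by omega)) (h (n + 1) hn) hc

theorem adm_pred {c : ℕ → ℂ} {v : V} (hv : v ≠ 0) (h : ∀ n < p, jm ρ x n v = c n • v) {n : ℕ} (hn : n + 1 < p)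
    (hc : c (n + 1) = c n - 1) : ρ (adj x n) v = -v := by
  obtain ⟨H, hH⟩ := exists_herm ρ
  exact local_pred H (J := jm ρ x n) (J' := jm ρ x (n + 1)) (s := ρ (adj x n)) (jm_sa hx hH n) (hH _) (adj_sq ρ hx n)
    (jm_succ ρ hx hn) hv (h n (by omega)) (h (n + 1) hn) hc

theorem adm_swap {c : ℕ → ℂ} (h : Adm ρ x p c) {n : ℕ} (hn : n + 1 < p) (h1 : c (n + 1) ≠ c n + 1)
    (h2 : c (n + 1) ≠ c n - 1) : Adm ρ x p (fun i => c (swap n (n + 1) i)) := by
  have h0 := adm_ne hx h hn
  obtain ⟨v, hv, h⟩ := h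
  obtain ⟨κ, hne, ha, hb⟩ := local_swap (J := jm ρ x n) (J' := jm ρ x (n + 1)) (s := ρ (adj x n)) (adj_sq ρ hx n)
    (jm_succ ρ hx hn) hv (h n (by omega)) (h (n + 1) hn) h0 h1 h2
  refine ⟨_, hne, fun m hm => ?_⟩
  show jm ρ x m _ = c (swap n (n + 1) m) • _
  rcases eq_or_ne m n with rfl | hmn
  · rw [swap_apply_left]; exact ha
  rcases eq_or_ne m (n + 1) with rfl | hmn1
  · rw [swap_apply_right]; exact hb
  rw [swap_apply_of_ne_of_ne hmn hmn1, map_add, map_smul, ← Module.End.mul_apply, ← adj_comm ρ hx hmn hmn1 hn hm,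
    Module.End.mul_apply, h m hm, map_smul]
  module

theorem adm_braid {c : ℕ → ℂ} (h : Adm ρ x p c) {n : ℕ} (hn : n + 2 < p) (h0 : c (n + 2) = c n) :
    c (n + 1) ≠ c n + 1 ∧ c (n + 1) ≠ c n - 1 := by
  obtain ⟨v, hv, h⟩ := h
  have hb := LinearMap.congr_fun (braid ρ hx hn) v
  simp only [Module.End.mul_apply] at hb
  have key : ∀ w : V, w = -w → w = 0 := by
    intro w hw
    have : (2 : ℂ) • w = 0 := by
      have : (2 : ℂ) • w = w + w := by module
      rw [this]
      nth_rw 2 [hw]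
      abel
    exact (smul_eq_zero.1 this).resolve_left two_ne_zero
  constructor
  · intro h1
    have e1 := adm_succ hx hv h (n := n) (by omega) h1
    have e2 := adm_pred hx hv h (n := n + 1) (by omega) (by
      show c (n + 2) = c (n + 1) - 1
      rw [h0, h1]; ring)
    simp only [e1, e2, map_neg, neg_neg] at hb
    exact hv (key v hb.symm)
  · intro h1
    have e1 := adm_pred hx hv h (n := n) (by omega) h1
    have e2 := adm_succ hx hv h (n := n + 1) (by omega) (by
      show c (n + 2) = c (n + 1) + 1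
      rw [h0, h1]; ring)
    simp only [e1, e2, map_neg, neg_neg] at hb
    exact hv (key v hb)

theorem exists_adm [Nontrivial V] : ∃ c, Adm ρ x p c := by
  have key : ∀ k, k ≤ p → ∃ (c : ℕ → ℂ) (v : V), v ≠ 0 ∧ ∀ n < k, jm ρ x n v = c n • v := by
    intro k
    induction k with
    | zero =>
      intro _
      obtain ⟨v, hv⟩ := exists_ne (0 : V)
      exact ⟨fun _ => 0, v, hv, fun n hn => absurd hn (by omega)⟩
    | succ k ih =>
      intro hk
      obtain ⟨c, v, hv, h⟩ := ih (by omega)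
      let W : Submodule ℂ V :=
        { carrier := {w | ∀ n < k, jm ρ x n w = c n • w}
          add_mem' := fun {a b} ha hb n hn => by rw [map_add, ha n hn, hb n hn, smul_add]
          zero_mem' := fun n _ => by rw [map_zero, smul_zero]
          smul_mem' := fun r a ha n hn => by rw [map_smul, ha n hn, smul_comm] }
      have hW : ∀ w ∈ W, jm ρ x k w ∈ W := by
        intro w hw n hn
        rw [← Module.End.mul_apply, jm_comm_jm ρ hx hn (by omega), Module.End.mul_apply, hw n hn, map_smul]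
      have hnt : Nontrivial W := ⟨⟨⟨v, h⟩, 0, fun h0 => hv (congrArg Subtype.val h0)⟩⟩
      obtain ⟨a, ha⟩ := Module.End.exists_eigenvalue ((jm ρ x k).restrict hW)
      obtain ⟨w, hw⟩ := ha.exists_hasEigenvector
      refine ⟨Function.update c k a, w, fun h0 => hw.2 (Subtype.ext h0), fun n hn => ?_⟩
      rcases Nat.lt_or_ge n k with h1 | h1
      · rw [Function.update_of_ne (by omega)]
        exact w.2 n h1
      · have : n = k := by omega
        subst this
        rw [Function.update_self]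
        exact congrArg Subtype.val hw.apply_eq_smul
  obtain ⟨c, v, hv, h⟩ := key p le_rfl
  exact ⟨c, v, hv, h⟩

end JM

end Cfsg.Agent.H127.An
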