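import Cfsg.Agent.H127.An.PCyc
import Cfsg.Agent.H127.An.Content

/-!
# Proof of the key lemma (S4792, alternating groups)
-/

set_option autoImplicit false
set_option linter.unusedSectionVars false

namespace Cfsg.Agent.H127.An

open Equiv

section Final

variable {α : Type} [Fintype α] [DecidableEq α] {V : Type} [AddCommGroup V] [Module ℂ V]
  {ρ : Representation ℂ (Perm α) V} {x : ℕ → α} {p : ℕ} (hx : ∀ i j, i < p → j < p → x i = x j → i = j)
include hx

/-- from the adjacent transpositions to all transpositions -/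
theorem swap_of_adj {ε : ℂ} (hε : ε * ε = 1) {m : ℕ} (hm : m < p) {v : V}
    (h : ∀ n, n + 1 < m → ρ (adj x n) v = ε • v) :
    ∀ j < m, ∀ i < j, ρ (swap (x i) (x j)) v = ε • v := by
  intro j
  induction j with
  | zero => intro _ i hi; omega
  | succ j ih =>
    intro hj i hi
    rcases Nat.lt_or_ge i j with hij | hij
    · have h1 : x i ≠ x j := fun e => by have := hx i j (by omega) (by omega) e; omega
      have h2 : x i ≠ x (j + 1) := fun e => by have := hx i (j + 1) (by omega) (by omega) e; omega
      have e : swap (x i) (x (j + 1)) = adj x j * swap (x i) (x j) * adj x j := by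
        rw [adj, mul_swap_eq_swap_mul (swap (x j) (x (j + 1))) (x i) (x j), swap_apply_of_ne_of_ne h1 h2,
          swap_apply_left, mul_assoc, swap_mul_self, mul_one]
      rw [e, map_mul, map_mul, Module.End.mul_apply, Module.End.mul_apply, h j hj, map_smul, ih (by omega) i hij,
        map_smul, map_smul, h j hj, smul_smul, hε, one_smul]
    · have : i = j := by omega
      subst this
      exact h i hj

/-- from the transpositions to the stabiliser of the last point -/
theorem stab_of_swap (hsur : ∀ y, ∃ i < p, x i = y) (hp : 0 < p) {ε : ℂ} {v : V}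
    (h : ∀ j < p - 1, ∀ i < j, ρ (swap (x i) (x j)) v = ε • v) (χ : Perm α → ℂ) (hχ1 : χ 1 = 1)
    (hχm : ∀ g h, χ (g * h) = χ g * χ h) (hχs : ∀ y z, y ≠ z → χ (swap y z) = ε) (g : Perm α)
    (hg : g (x (p - 1)) = x (p - 1)) : ρ g v = χ g • v := by
  obtain ⟨g', rfl⟩ := exists_ofSubtype (q := fun y => y ≠ x (p - 1)) (g := g) (fun y hy => by
    rw [not_not] at hy
    rw [hy, hg])
  clear hg
  induction g' using Perm.swap_induction_on with
  | one => rw [map_one, hχ1, map_one, one_smul, Module.End.one_apply]
  | swap_mul f y z hyz ih =>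
    have hsw : (Perm.ofSubtype (swap y z) : Perm α) = swap (y : α) (z : α) := Perm.ofSubtype_swap_eq y z
    have hyz' : (y : α) ≠ z := fun e => hyz (Subtype.ext e)
    have hswv : ρ (swap (y : α) (z : α)) v = ε • v := by
      obtain ⟨i, hi, hiy⟩ := hsur y
      obtain ⟨j, hj, hjz⟩ := hsur z
      have hi' : i < p - 1 := by
        by_contra hcon
        have : i = p - 1 := by omega
        rw [this] at hiy
        exact y.2 hiy.symm
      have hj' : j < p - 1 := by
        by_contra hcon
        have : j = p - 1 := by omega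
        rw [this] at hjz
        exact z.2 hjz.symm
      rw [← hiy, ← hjz]
      rcases lt_trichotomy i j with hij | rfl | hij
      · exact h j hj' i hij
      · exact absurd (hiy.symm.trans hjz) hyz'
      · rw [swap_comm]
        exact h i hi' j hij
    rw [map_mul, map_mul, Module.End.mul_apply, ih, map_smul, hsw, hswv, hχm, hχs _ _ hyz', smul_smul, mul_comm]

end Final

/-- **The key lemma.** -/
theorem keyLemma : KeyLemma := by
  intro p hp h5 V _ _ _ _ ρ hno
  have hp0 : 0 < p := hp.pos
  let x : ℕ → Fin p := fun i => if h : i < p then ⟨i, h⟩ else ⟨0, hp0⟩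
  have hxv : ∀ i (h : i < p), x i = ⟨i, h⟩ := fun i h => dif_pos h
  have hx : ∀ i j, i < p → j < p → x i = x j → i = j := by
    intro i j hi hj h
    rw [hxv i hi, hxv j hj] at h
    exact congrArg Fin.val h
  have hsur : ∀ y : Fin p, ∃ i < p, x i = y := fun y => ⟨y, y.2, by rw [hxv y y.2]⟩
  have huniv : ptS x p = Finset.univ := by
    apply Finset.eq_univ_of_card
    rw [card_ptS hx le_rfl, Fintype.card_fin]
  have hno' : ∀ c, Cyc p (ptS x p) c → ∀ v, ρ c v = v → v = 0 := by
    intro c hc
    refine hno c (hc.isCycle hp.two_le) ?_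
    rw [hc.support_eq hp.two_le, huniv]
  rcases content (p := p) (Adm := Adm ρ x p) h5 (exists_adm hx) (fun c h => adm_zero hx hp0 h)
    (fun c h => adm_one hx hp.one_lt h) (fun c h n hn => adm_ne hx h hn)
    (fun c h n hn h1 h2 => adm_swap hx h hn h1 h2) (fun c h n hn h0 => adm_braid hx h hn h0)
    (fun c h => adm_prod ρ hx hp hno' h) with ⟨c, ⟨v, hv, h⟩, hc⟩ | ⟨c, ⟨v, hv, h⟩, hc⟩
  · refine ⟨x (p - 1), v, hv, Or.inl fun g hg => ?_⟩
    have h1 : ∀ n, n + 1 < p - 1 → ρ (adj x n) v = (1 : ℂ) • v := by
      intro n hn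
      rw [one_smul]
      refine adm_succ hx hv h (by omega) ?_
      rw [hc n (by omega), hc (n + 1) hn]
      push_cast
      rfl
    have h2 := swap_of_adj hx (one_mul 1) (m := p - 1) (by omega) h1
    have h3 := stab_of_swap hx hsur hp0 h2 (fun _ => 1) rfl (fun _ _ => (one_mul 1).symm) (fun _ _ _ => rfl) g hg
    rwa [one_smul] at h3
  · refine ⟨x (p - 1), v, hv, Or.inr fun g hg => ?_⟩
    have h1 : ∀ n, n + 1 < p - 1 → ρ (adj x n) v = (-1 : ℂ) • v := by
      intro n hn
      rw [neg_one_smul]
      refine adm_pred hx hv h (by omega) ?_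
      rw [hc n (by omega), hc (n + 1) hn]
      push_cast
      ring
    have h2 := swap_of_adj hx (ε := -1) (by norm_num) (m := p - 1) (by omega) h1
    exact stab_of_swap hx hsur hp0 h2 sg sg_one sg_mul (fun y z hyz => by
      rw [sg, Perm.sign_swap hyz]
      simp) g hg

end Cfsg.Agent.H127.An
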