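import Cfsg.Agent.H127.An.JM
import Cfsg.Agent.H127.An.StepM

/-!
# The sum of the `p`-cycles (S4792, key lemma)
-/

set_option autoImplicit false
set_option linter.unusedSectionVars false

namespace Cfsg.Agent.H127.An

open Equiv

section Ext

variable {α : Type} [Fintype α] [DecidableEq α] {k : ℕ} {s : Finset α} {c : Perm α}

theorem Cyc.ext (h : Cyc k s c) {y z : α} (hy : y ∈ s) (hz : z ∉ s) : Cyc (k + 1) (insert z s) (c * swap y z) := by
  have hyz : y ≠ z := fun e => hz (e ▸ hy)
  have e1 : (c * swap y z) z = c y := by rw [Perm.mul_apply, swap_apply_right]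
  have e2 : (c * swap y z) y = z := by rw [Perm.mul_apply, swap_apply_left, h.fix hz]
  have e3 : ∀ w, w ≠ y → w ≠ z → (c * swap y z) w = c w := fun w h1 h2 => by
    rw [Perm.mul_apply, swap_apply_of_ne_of_ne h1 h2]
  have hne : ∀ w, w ∈ s → w ≠ z := fun w hw e => hz (e ▸ hw)
  have hmem : ∀ n : ℕ, (c ^ n) y ∈ s := by
    intro n
    induction n with
    | zero => exact hy
    | succ n ih => rw [pow_succ', Perm.mul_apply]; exact h.mem_iff.2 ih
  have hSC0 : (c * swap y z).SameCycle y z := ⟨1, by rw [zpow_one, e2]⟩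
  have step : ∀ {a b : α}, (c * swap y z).SameCycle y a → (c * swap y z) a = b → (c * swap y z).SameCycle y b := by
    intro a b h1 h2
    rw [← h2]
    exact h1.trans ⟨1, by rw [zpow_one]⟩
  have hSC : ∀ n : ℕ, (c * swap y z).SameCycle y ((c ^ n) y) := by
    intro n
    induction n with
    | zero => exact Perm.SameCycle.refl _ _
    | succ n ih =>
      rw [pow_succ', Perm.mul_apply]
      by_cases h1 : (c ^ n) y = y
      · rw [h1]
        exact step hSC0 e1
      · exact step ih (e3 _ h1 (hne _ (hmem n)))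
  have hSC' : ∀ w ∈ insert z s, (c * swap y z).SameCycle y w := by
    intro w hw
    rcases Finset.mem_insert.1 hw with rfl | hw
    · exact hSC0
    · obtain ⟨n, -, rfl⟩ := h.exists_pow hy hw
      exact hSC n
  refine ⟨?_, ⟨⟨?_, (c * swap y z).injective.injOn, ?_⟩, ?_⟩, ?_⟩
  · rw [Finset.card_insert_of_notMem hz, h.card]
  · intro w hw
    rw [Finset.mem_coe] at hw ⊢
    by_cases h1 : w = z
    · rw [h1, e1]; exact Finset.mem_insert_of_mem (h.mem_iff.2 hy)
    by_cases h2 : w = y
    · rw [h2, e2]; exact Finset.mem_insert_self _ _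
    · rw [e3 w h2 h1]
      exact Finset.mem_insert_of_mem (h.mem_iff.2 ((Finset.mem_insert.1 hw).resolve_left h1))
  · intro w hw
    rw [Finset.mem_coe] at hw
    rcases Finset.mem_insert.1 hw with rfl | hw
    · exact ⟨y, Finset.mem_coe.2 (Finset.mem_insert_of_mem hy), e2⟩
    · have h1 : c⁻¹ w ∈ s := by
        rw [← h.mem_iff]
        simpa using hw
      by_cases h2 : c⁻¹ w = y
      · refine ⟨z, Finset.mem_coe.2 (Finset.mem_insert_self _ _), ?_⟩
        rw [e1, ← h2]
        simp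
      · refine ⟨c⁻¹ w, Finset.mem_coe.2 (Finset.mem_insert_of_mem h1), ?_⟩
        rw [e3 _ h2 (hne _ h1)]
        simp
  · intro w hw w' hw'
    exact (hSC' w (Finset.mem_coe.1 hw)).symm.trans (hSC' w' (Finset.mem_coe.1 hw'))
  · intro w hw
    rw [Perm.mem_support] at hw
    by_contra hcon
    rw [Finset.mem_insert, not_or] at hcon
    apply hw
    rw [e3 w (fun e => hcon.2 (e ▸ hy)) hcon.1, h.fix hcon.2]

theorem Cyc.unext (hk : 1 ≤ k) {z : α} (hz : z ∉ s) {c : Perm α} (h : Cyc (k + 1) (insert z s) c) {y : α}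
    (hy : c y = z) : y ∈ s ∧ Cyc k s (c * swap y z) := by
  have hcz : c z ≠ z := h.ne (by omega) (Finset.mem_insert_self _ _)
  have hyz : y ≠ z := by rintro rfl; exact hcz hy
  have hys : y ∈ s := by
    have h1 : y ∈ insert z s := by
      rw [← h.mem_iff, hy]
      exact Finset.mem_insert_self _ _
    exact (Finset.mem_insert.1 h1).resolve_left hyz
  have e1 : (c * swap y z) z = z := by rw [Perm.mul_apply, swap_apply_right, hy]
  have e2 : (c * swap y z) y = c z := by rw [Perm.mul_apply, swap_apply_left]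
  have e3 : ∀ w, w ≠ y → w ≠ z → (c * swap y z) w = c w := fun w h1 h2 => by
    rw [Perm.mul_apply, swap_apply_of_ne_of_ne h1 h2]
  have hne : ∀ w, w ∈ s → w ≠ z := fun w hw e => hz (e ▸ hw)
  have hcs : ∀ w, w ∈ insert z s → w ≠ y → c w ∈ s := by
    intro w hw h1
    have h2 : c w ∈ insert z s := h.mem_iff.2 hw
    refine (Finset.mem_insert.1 h2).resolve_left fun h3 => h1 (c.injective (h3.trans hy.symm))
  have hmem : ∀ n : ℕ, (c ^ n) y ∈ insert z s := by
    intro n
    induction n with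
    | zero => exact Finset.mem_insert_of_mem hys
    | succ n ih => rw [pow_succ', Perm.mul_apply]; exact h.mem_iff.2 ih
  have hSC : ∀ n : ℕ, (c ^ n) y ∈ s → (c * swap y z).SameCycle y ((c ^ n) y) := by
    intro n
    induction n with
    | zero => intro _; exact Perm.SameCycle.refl _ _
    | succ n ih =>
      rw [pow_succ', Perm.mul_apply]
      intro hs
      rcases Finset.mem_insert.1 (hmem n) with h1 | h1
      · rw [h1]
        exact ⟨1, by rw [zpow_one, e2]⟩
      · have h2 : (c ^ n) y ≠ y := by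
          intro h3
          rw [h3, hy] at hs
          exact hz hs
        refine (ih h1).trans ⟨1, ?_⟩
        rw [zpow_one, e3 _ h2 (hne _ h1)]
  have hSC' : ∀ w ∈ s, (c * swap y z).SameCycle y w := by
    intro w hw
    obtain ⟨n, -, rfl⟩ := h.exists_pow (Finset.mem_insert_of_mem hys) (Finset.mem_insert_of_mem hw)
    exact hSC n hw
  refine ⟨hys, ?_, ⟨⟨?_, (c * swap y z).injective.injOn, ?_⟩, ?_⟩, ?_⟩
  · have := h.card
    rw [Finset.card_insert_of_notMem hz] at this
    omega
  · intro w hw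
    rw [Finset.mem_coe] at hw ⊢
    by_cases h2 : w = y
    · rw [h2, e2]; exact hcs z (Finset.mem_insert_self _ _) (Ne.symm hyz)
    · rw [e3 w h2 (hne w hw)]
      exact hcs w (Finset.mem_insert_of_mem hw) h2
  · intro w hw
    rw [Finset.mem_coe] at hw
    have h1 : c⁻¹ w ∈ insert z s := by
      rw [← h.mem_iff]
      simpa using Or.inr hw
    have h3 : c⁻¹ w ≠ y := by
      intro e
      rw [Perm.inv_eq_iff_eq, hy] at e
      exact hz (e ▸ hw)
    rcases Finset.mem_insert.1 h1 with h2 | h2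
    · refine ⟨y, Finset.mem_coe.2 hys, ?_⟩
      rw [e2, ← h2]
      simp
    · refine ⟨c⁻¹ w, Finset.mem_coe.2 h2, ?_⟩
      rw [e3 _ h3 (hne _ h2)]
      simp
  · intro w hw w' hw'
    exact (hSC' w (Finset.mem_coe.1 hw)).symm.trans (hSC' w' (Finset.mem_coe.1 hw'))
  · intro w hw
    rw [Perm.mem_support] at hw
    by_contra hcon
    apply hw
    by_cases h1 : w = z
    · rw [h1, e1]
    · rw [e3 w (fun e => hcon (e ▸ hys)) h1, h.fix]
      rw [Finset.mem_insert, not_or]
      exact ⟨h1, hcon⟩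

theorem Cyc.pow_mem (h : Cyc k s c) (n : ℕ) {w : α} : (c ^ n) w ∈ s ↔ w ∈ s := by
  induction n with
  | zero => rfl
  | succ n ih => rw [pow_succ', Perm.mul_apply, h.mem_iff, ih]

theorem Cyc.pow (h : Cyc k s c) {i j : ℕ} (hij : c ^ (i * j) = c) : Cyc k s (c ^ i) where
  card := h.card
  on := by
    refine ⟨⟨fun w hw => ?_, (c ^ i).injective.injOn, fun w hw => ?_⟩, fun w hw w' hw' => ?_⟩
    · rw [Finset.mem_coe] at hw ⊢
      exact (h.pow_mem i).2 hw
    · rw [Finset.mem_coe] at hw
      refine ⟨(c ^ i)⁻¹ w, ?_, by simp⟩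
      rw [Finset.mem_coe, ← h.pow_mem i]
      simpa using hw
    · obtain ⟨m, -, hm⟩ := h.exists_pow (Finset.mem_coe.1 hw) (Finset.mem_coe.1 hw')
      refine ⟨((j * m : ℕ) : ℤ), ?_⟩
      rw [zpow_natCast, ← pow_mul, ← mul_assoc, pow_mul, hij, hm]
  supp := by
    intro w hw
    rw [Perm.mem_support] at hw
    by_contra hcon
    exact hw (h.pow_fix hcon i)

end Ext

section Sum

variable {α : Type} [Fintype α] [DecidableEq α] {V : Type} [AddCommGroup V] [Module ℂ V]
  (ρ : Representation ℂ (Perm α) V) (x : ℕ → α)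

/-- the cycles on the first `n + 1` points -/
noncomputable def cycs (n : ℕ) : Finset (Perm α) := by
  classical exact Finset.univ.filter fun c => Cyc (n + 1) (ptS x (n + 1)) c

variable {x}

theorem mem_cycs {n : ℕ} {c : Perm α} : c ∈ cycs x n ↔ Cyc (n + 1) (ptS x (n + 1)) c := by
  simp [cycs]

/-- the product of the Jucys-Murphy elements -/
noncomputable def prodX (ρ : Representation ℂ (Perm α) V) (x : ℕ → α) : ℕ → Module.End ℂ V
  | 0 => 1
  | n + 1 => prodX ρ x n * jm ρ x (n + 1)

variable {p : ℕ} (hx : ∀ i j, i < p → j < p → x i = x j → i = j)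
include hx

theorem cycs_succ {n : ℕ} (hn : n + 1 < p) :
    cycs x (n + 1) = (cycs x n ×ˢ ptS x (n + 1)).image (fun a => a.1 * swap a.2 (x (n + 1))) ∧
      Set.InjOn (fun a : Perm α × α => a.1 * swap a.2 (x (n + 1))) (cycs x n ×ˢ ptS x (n + 1) : Finset _) := by
  have hz : x (n + 1) ∉ ptS x (n + 1) := notMem_ptS hx hn le_rfl
  constructor
  · ext c
    rw [Finset.mem_image, mem_cycs]
    have e : ptS x (n + 1 + 1) = insert (x (n + 1)) (ptS x (n + 1)) := ptS_succ (n + 1)
    rw [e]
    constructor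
    · intro hc
      have hy : c (c⁻¹ (x (n + 1))) = x (n + 1) := by simp
      obtain ⟨h1, h2⟩ := Cyc.unext (by omega) hz hc hy
      refine ⟨(c * swap (c⁻¹ (x (n + 1))) (x (n + 1)), c⁻¹ (x (n + 1))), ?_, ?_⟩
      · rw [Finset.mem_product]
        exact ⟨mem_cycs.2 h2, h1⟩
      · show c * swap (c⁻¹ (x (n + 1))) (x (n + 1)) * swap (c⁻¹ (x (n + 1))) (x (n + 1)) = c
        rw [mul_assoc, swap_mul_self, mul_one]
    · rintro ⟨⟨c', y⟩, h1, rfl⟩
      rw [Finset.mem_product] at h1
      exact (mem_cycs.1 h1.1).ext h1.2 hz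
  · rintro ⟨c1, y1⟩ h1 ⟨c2, y2⟩ h2 h
    rw [Finset.mem_coe, Finset.mem_product] at h1 h2
    have h1' := mem_cycs.1 h1.1
    have h2' := mem_cycs.1 h2.1
    change c1 * swap y1 (x (n + 1)) = c2 * swap y2 (x (n + 1)) at h
    have e1 : (c1 * swap y1 (x (n + 1))) y1 = x (n + 1) := by
      rw [Perm.mul_apply, swap_apply_left, h1'.fix hz]
    have e2 : (c2 * swap y2 (x (n + 1))) y2 = x (n + 1) := by
      rw [Perm.mul_apply, swap_apply_left, h2'.fix hz]
    rw [h] at e1
    have e3 : y1 = y2 := (c2 * swap y2 (x (n + 1))).injective (e1.trans e2.symm)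
    subst e3
    have e4 := mul_right_cancel h
    rw [e4]

theorem cycs_zero : cycs x 0 = {1} := by
  have e : ptS x (0 + 1) = {x 0} := by
    rw [ptS_succ, ptS_zero, insert_empty_eq]
  obtain ⟨c, hc⟩ := exists_cyc ({x 0} : Finset α)
  rw [Finset.card_singleton] at hc
  have hc1 := hc.pow_eq_one
  rw [pow_one] at hc1
  ext d
  rw [mem_cycs, Finset.mem_singleton, e]
  constructor
  · intro hd
    have := hd.pow_eq_one
    rwa [zero_add, pow_one] at this
  · rintro rfl
    rw [← hc1]
    exact hc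

theorem card_cycs : ∀ n < p, (cycs x n).card = n.factorial := by
  intro n
  induction n with
  | zero => intro hp; rw [cycs_zero hx, Finset.card_singleton, Nat.factorial_zero]
  | succ n ih =>
    intro hn
    obtain ⟨h1, h2⟩ := cycs_succ hx hn
    rw [h1, Finset.card_image_of_injOn h2, Finset.card_product, ih (by omega), card_ptS hx (by omega),
      Nat.factorial_succ, mul_comm]

theorem prodX_eq : ∀ n < p, prodX ρ x n = ∑ c ∈ cycs x n, ρ c := by
  intro n
  induction n with
  | zero => intro hp; rw [cycs_zero hx, Finset.sum_singleton, map_one]; rfl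
  | succ n ih =>
    intro hn
    obtain ⟨h1, h2⟩ := cycs_succ hx hn
    rw [h1, Finset.sum_image h2, Finset.sum_product]
    show prodX ρ x n * jm ρ x (n + 1) = _
    rw [ih (by omega), jm, Finset.sum_mul]
    refine Finset.sum_congr rfl fun c _ => ?_
    rw [Finset.mul_sum]
    refine Finset.sum_congr rfl fun y _ => ?_
    rw [map_mul]

omit hx in
/-- the powers of `c` sum to zero if `c` has no fixed vector -/
theorem norm_zero {s : Finset α} {c : Perm α} (hc : Cyc p s c) (hno : ∀ v, ρ c v = v → v = 0) :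
    ∑ i ∈ Finset.range p, ρ (c ^ i) = 0 := by
  apply LinearMap.ext
  intro v
  rw [LinearMap.zero_apply]
  apply hno
  rw [LinearMap.sum_apply, map_sum]
  have h1 : ∀ i, ρ c (ρ (c ^ i) v) = ρ (c ^ (i + 1)) v := by
    intro i
    rw [pow_succ', map_mul, Module.End.mul_apply]
  rw [Finset.sum_congr rfl fun i _ => h1 i]
  have h2 := Finset.sum_range_succ (fun i => ρ (c ^ i) v) p
  have h3 := Finset.sum_range_succ' (fun i => ρ (c ^ i) v) p
  rw [h2, hc.pow_eq_one, pow_zero] at h3
  exact (add_right_cancel h3).symm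

/-- **the sum of the `p`-cycles acts as `-(p-2)!`** -/
theorem prodX_val (hp : p.Prime) (hno : ∀ c, Cyc p (ptS x p) c → ∀ v, ρ c v = v → v = 0) :
    prodX ρ x (p - 1) = (-((p - 2).factorial : ℂ)) • (1 : Module.End ℂ V) := by
  have hp2 := hp.two_le
  have e1 : p - 1 + 1 = p := by omega
  have hmem : ∀ c, c ∈ cycs x (p - 1) ↔ Cyc p (ptS x p) c := by
    intro c
    rw [mem_cycs, e1]
  rw [prodX_eq ρ hx (p - 1) (by omega)]
  set K := ∑ c ∈ cycs x (p - 1), ρ c with hK
  have hpow : ∀ i ∈ Finset.Ico 1 p, ∑ c ∈ cycs x (p - 1), ρ (c ^ i) = K := by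
    intro i hi
    rw [Finset.mem_Ico] at hi
    have hcop : Nat.Coprime i p := by
      rw [Nat.coprime_comm, hp.coprime_iff_not_dvd]
      intro h
      have := Nat.le_of_dvd (by omega) h
      omega
    obtain ⟨j, -, hj⟩ := Nat.exists_mul_mod_eq_one_of_coprime hcop hp.one_lt
    have hcj : ∀ c : Perm α, Cyc p (ptS x p) c → c ^ (i * j) = c := by
      intro c hc
      rw [← Nat.mod_add_div (i * j) p, hj, pow_add, pow_mul, hc.pow_eq_one, one_pow, mul_one, pow_one]
    refine Finset.sum_bij' (fun c _ => c ^ i) (fun c _ => c ^ j) (fun c hc => ?_) (fun c hc => ?_) (fun c hc => ?_)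
      (fun c hc => ?_) (fun c _ => rfl)
    · rw [hmem] at hc ⊢
      exact hc.pow (hcj c hc)
    · rw [hmem] at hc ⊢
      exact hc.pow (j := i) (by rw [mul_comm]; exact hcj c hc)
    · rw [hmem] at hc
      show (c ^ i) ^ j = c
      rw [← pow_mul, hcj c hc]
    · rw [hmem] at hc
      show (c ^ j) ^ i = c
      rw [← pow_mul, mul_comm, hcj c hc]
  have htot : ∑ i ∈ Finset.range p, ∑ c ∈ cycs x (p - 1), ρ (c ^ i) = 0 := by
    rw [Finset.sum_comm]
    exact Finset.sum_eq_zero fun c hc => norm_zero ρ ((hmem c).1 hc) (hno c ((hmem c).1 hc))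
  rw [Finset.range_eq_Ico, Finset.sum_eq_sum_Ico_succ_bot (by omega), Finset.sum_congr rfl hpow, Finset.sum_const,
    Nat.card_Ico] at htot
  have h0 : ∑ c ∈ cycs x (p - 1), ρ (c ^ 0) = ((p - 1).factorial : ℂ) • (1 : Module.End ℂ V) := by
    simp only [pow_zero, map_one, Finset.sum_const]
    rw [card_cycs hx (p - 1) (by omega), ← Nat.cast_smul_eq_nsmul ℂ]
  have hf : (p - 1).factorial = (p - 1) * (p - 2).factorial := by
    have : p - 1 = p - 2 + 1 := by omega
    rw [this, Nat.factorial_succ]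
  rw [h0, hf, ← Nat.cast_smul_eq_nsmul ℂ] at htot
  have hp1 : ((p - 1 : ℕ) : ℂ) ≠ 0 := by
    rw [Nat.cast_ne_zero]
    omega
  have h1 : ((p - 1 : ℕ) : ℂ) • (((p - 2).factorial : ℂ) • (1 : Module.End ℂ V) + K) = 0 := by
    rw [smul_add, smul_smul, ← Nat.cast_mul]
    exact htot
  have h2 := (smul_eq_zero.1 h1).resolve_left hp1
  rw [neg_smul]
  exact eq_neg_of_add_eq_zero_right h2

omit hx in
theorem prodX_apply {c : ℕ → ℂ} {v : V} (h : ∀ n < p, jm ρ x n v = c n • v) :
    ∀ n < p, prodX ρ x n v = (∏ i ∈ Finset.range n, c (i + 1)) • v := by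
  intro n
  induction n with
  | zero =>
    intro _
    rw [Finset.prod_range_zero, one_smul]
    rfl
  | succ n ih =>
    intro hn
    show (prodX ρ x n * jm ρ x (n + 1)) v = _
    rw [Module.End.mul_apply, h (n + 1) hn, map_smul, ih (by omega), Finset.prod_range_succ, smul_smul, mul_comm]

theorem adm_prod (hp : p.Prime) (hno : ∀ c, Cyc p (ptS x p) c → ∀ v, ρ c v = v → v = 0) {c : ℕ → ℂ}
    (h : Adm ρ x p c) : ∏ n ∈ Finset.range (p - 1), c (n + 1) = -((p - 2).factorial : ℂ) := by
  obtain ⟨v, hv, h⟩ := h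
  have h1 := prodX_apply ρ h (p - 1) (Nat.sub_lt hp.pos one_pos)
  rw [prodX_val ρ hx hp hno, LinearMap.smul_apply, Module.End.one_apply] at h1
  have h2 : (∏ n ∈ Finset.range (p - 1), c (n + 1) - -((p - 2).factorial : ℂ)) • v = 0 := by
    rw [sub_smul, ← h1, sub_self]
  exact sub_eq_zero.1 ((smul_eq_zero.1 h2).resolve_right hv)

end Sum

end Cfsg.Agent.H127.An
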